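import Cfsg.Agent.H2.Basic

/-!
# The wreath product of two groups of order 3 has no cover with a small centralizer
-/

namespace Cfsg.Agent.FX

open Subgroup Function

namespace E1

theorem cent_surj {P Q : Type*} [Group P] [Finite P] [Group Q] (f : P →* Q) (hf : Surjective f)
    (y : P) : Nat.card (centralizer ({f y} : Set Q)) ≤ Nat.card (centralizer ({y} : Set P)) := by
  haveI := Finite.of_surjective f hf
  set D := (centralizer ({f y} : Set Q)).comap f
  set C := centralizer ({y} : Set P)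
  have hCD : C ≤ D := fun c hc => mem_comap.2 (mem_centralizer_singleton_iff.2 (by
    rw [← map_mul, ← map_mul, mem_centralizer_singleton_iff.1 hc]))
  have h1 : C.relIndex D ≤ Nat.card f.ker := by
    refine Nat.card_le_card_of_injective (fun q : D ⧸ C.subgroupOf D =>
      (⟨(q.out : P) * y * (q.out : P)⁻¹ * y⁻¹, by
        have := mem_centralizer_singleton_iff.1 (mem_comap.1 q.out.2)
        simp [MonoidHom.mem_ker, this]⟩ : f.ker)) fun a b e => ?_
    have e1 : (a.out : P) * y * (a.out : P)⁻¹ = (b.out : P) * y * (b.out : P)⁻¹ :=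
      mul_right_cancel (congrArg Subtype.val e)
    rw [← a.out_eq, ← b.out_eq]
    refine QuotientGroup.eq.2 (mem_subgroupOf.2 (mem_centralizer_singleton_iff.2 ?_))
    push_cast
    calc _ = (a.out : P)⁻¹ * ((b.out : P) * y * (b.out : P)⁻¹) * b.out := by group
      _ = _ := by rw [← e1]; group
  have h2 := relIndex_mul_index hCD
  rw [index_comap_of_surjective _ hf] at h2
  have h3 := C.card_mul_index
  have h4 := (centralizer ({f y} : Set Q)).card_mul_index
  have h5 := f.ker.card_mul_index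
  rw [index_ker, MonoidHom.range_eq_top.2 hf, card_top] at h5
  have h6 : 0 < (centralizer ({f y} : Set Q)).index := Nat.pos_of_ne_zero index_ne_zero_of_finite
  have h7 : 0 < Nat.card f.ker := Nat.card_pos
  have h8 : Nat.card C * C.relIndex D = Nat.card f.ker * Nat.card (centralizer ({f y} : Set Q)) :=
    Nat.eq_of_mul_eq_mul_right h6 (by rw [mul_assoc, h2, h3, mul_assoc, h4, h5])
  nlinarith

theorem exists_E (T : Sylow 3 (Equiv.Perm (Fin (3 ^ 2)))) : Nat.card T = 81 ∧
    ∃ g : Multiplicative (Fin 3 → ZMod 3) →* T, Injective g := by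
  refine ⟨by rw [T.card_eq_multiplicity, Nat.card_eq_fintype_card, Fintype.card_perm]; decide +kernel, ?_⟩
  let a : Multiplicative (Fin 3 → ZMod 3) →* Equiv.Perm (Fin 3 × ZMod 3) :=
    { toFun := fun v => ⟨fun x => (x.1, x.2 + v.toAdd x.1), fun x => (x.1, x.2 - v.toAdd x.1),
        fun x => by simp, fun x => by simp⟩
      map_one' := by ext x <;> simp
      map_mul' := fun v w => by ext x <;> simp; ring }
  have ha : Injective a := (injective_iff_map_eq_one a).2 fun v hv => by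
    ext i
    simpa [a] using congrArg (fun σ : Equiv.Perm (Fin 3 × ZMod 3) => (σ (i, 0)).2) hv
  let e : Fin 3 × ZMod 3 ≃ Fin (3 ^ 2) := Fintype.equivFinOfCardEq (by simp)
  let b := e.permCongrHom.toMonoidHom.comp a
  have hb : Injective b := e.permCongrHom.injective.comp ha
  have hp : IsPGroup 3 b.range := (IsPGroup.of_card (n := 3) (by simp)).of_surjective _
    b.rangeRestrict_surjective
  obtain ⟨S, hS⟩ := hp.exists_le_sylow
  exact ⟨(S.equiv T).toMonoidHom.comp ((inclusion hS).comp b.rangeRestrict),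
    (S.equiv T).injective.comp ((inclusion_injective hS).comp fun _ _ h => hb (congrArg Subtype.val h))⟩

theorem core {P : Type*} [Group P] {N B : Subgroup P} (φ : P →* P) (hy : ∀ x, φ (φ (φ x)) = x)
    (hB : ∀ u ∈ B, φ u ∈ B) (hφ : ∀ n ∈ N, φ n = n)
    (hN : ∀ n ∈ N, ∀ g, g * n = n * g) (hN3 : ∀ n ∈ N, n ^ 3 = 1)
    (hc : ∀ u ∈ B, ∀ v ∈ B, ∃ n ∈ N, u * v = v * u * n) (h3 : ∀ u ∈ B, u ^ 3 ∈ N)
    {b1 b2 b3 b4 : P} (h1 : b1 ∈ B) (e1 : φ b1 = b1 * b2) (e2 : φ b2 = b2 * b3)
    (e3 : φ b3 = b3 * b4) : b4 = 1 := by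
  have dl : ∀ {u v}, u ∈ B → φ u = u * v → v ∈ B ∧ v ^ 3 = 1 := fun {u v} hu e => by
    have hv : v ∈ B := (B.mul_mem_cancel_left hu).1 (e ▸ hB u hu)
    refine ⟨hv, ?_⟩
    obtain ⟨n, hn, e'⟩ := hc v hv u hu
    have c := hN n hn
    have h4 : (u * v) ^ 3 = n ^ 3 * (u ^ 3 * v ^ 3) := by
      have k : ∀ w, v * (u * w) = n * (u * (v * w)) := fun w => by
        rw [← mul_assoc, e', c, mul_assoc, mul_assoc]
      have k' : ∀ g w, g * (n * w) = n * (g * w) := fun g w => by rw [← mul_assoc, c, mul_assoc]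
      simp only [pow_three, mul_assoc]
      rw [k, k' u, k, k' v, k' u, k' u, k, k' u, k' u]
    rw [← e, ← map_pow, hφ _ (h3 u hu), hN3 n hn, one_mul] at h4
    exact mul_left_cancel (h4.symm.trans (mul_one _).symm)
  obtain ⟨m2, c2⟩ := dl h1 e1
  obtain ⟨m3, c3⟩ := dl m2 e2
  have k := hy b1
  simp only [e1, e2, e3, map_mul] at k
  obtain ⟨n, hn, e⟩ := hc b3 m3 b2 m2
  have k1 : b2 * b2 * (b3 * b2) * b3 * b3 * b4 = 1 :=
    mul_left_cancel (a := b1) (by rw [mul_one]; conv_rhs => rw [← k]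
                                  simp only [mul_assoc])
  have k2 : n * b4 = 1 := by
    rw [e] at k1
    calc n * b4 = b2 ^ 3 * (b3 ^ 3 * n) * b4 := by rw [c2, c3]; simp
      _ = b2 * b2 * (b2 * b3 * (b3 * b3 * n)) * b4 := by simp only [pow_three, mul_assoc]
      _ = _ := by rw [hN n hn, ← k1]; simp only [mul_assoc]
  have m4 : b4 ∈ N := by rw [eq_inv_of_mul_eq_one_right k2]; exact N.inv_mem hn
  obtain ⟨m, hm, e'⟩ := hc b3 m3 b1 h1
  have k3 := congrArg φ e'
  simp only [map_mul, e1, e3, hφ m hm] at k3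
  rw [mul_assoc b3, ← hN b4 m4, ← mul_assoc, ← mul_assoc, e',
    mul_assoc (b1 * b3), ← hN m hm, ← mul_assoc, mul_assoc b1, e] at k3
  have k4 : b1 * b2 * b3 * (n * (m * b4)) = b1 * b2 * b3 * (m * b4) := by
    simpa only [mul_assoc, hN b4 m4 m] using k3
  have : n = 1 := mul_right_cancel ((mul_left_cancel k4).trans (one_mul _).symm)
  rwa [this, one_mul] at k2

theorem lt2 {R : Type*} [Group R] [Finite R] {A B : Subgroup R} (h : A < B) :
    2 * Nat.card A ≤ Nat.card B := by
  obtain ⟨c, hc⟩ := card_dvd_of_le h.le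
  have h1 : Nat.card A ≠ Nat.card B := fun e => h.ne (eq_of_le_of_card_ge h.le e.ge)
  have h2 := Nat.card_pos (α := B)
  rcases c with _ | _ | c
  · omega
  · omega
  · rw [hc]; nlinarith

theorem base {P Q : Type*} [Group P] [Finite P] [Group Q] (hQ : Nat.card Q = 81)
    (g : Multiplicative (Fin 3 → ZMod 3) →* Q) (hg : Injective g) {y z : P} (hy : y ^ 3 = 1)
    (hc : Nat.card (centralizer ({y} : Set P)) ≤ 9) (f : P →* Q) (hf : Surjective f)
    (hz : orderOf z = 3) (hzc : z ∈ center P) (hk : f.ker = zpowers z) : False := by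
  haveI := Finite.of_surjective f hf
  have hE : Nat.card g.range = 27 := by
    rw [← Nat.card_congr (MonoidHom.ofInjective hg).toEquiv]; simp
  have hi : g.range.index = 3 := by have := g.range.card_mul_index; rw [hE, hQ] at this; omega
  haveI hn : g.range.Normal := normal_of_index_eq_minFac_card (by rw [hi, hQ]; norm_num)
  have cE : ∀ u ∈ g.range, ∀ v ∈ g.range, u * v = v * u := by
    rintro _ ⟨a, rfl⟩ _ ⟨b, rfl⟩; rw [← map_mul, mul_comm, map_mul]
  have pE : ∀ u ∈ g.range, u ^ 3 = 1 := by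
    rintro _ ⟨a, rfl⟩
    rw [← map_pow, show a ^ 3 = 1 from Multiplicative.toAdd.injective (by
      ext i; simp; revert a; intro a; generalize a.toAdd i = c; revert c; decide), map_one]
  have hc' := (cent_surj f hf y).trans hc
  have hyE : f y ∉ g.range := fun h => by
    have := card_le_of_le (fun u hu => mem_centralizer_singleton_iff.2 (cE u hu _ h) :
      g.range ≤ centralizer {f y})
    omega
  have hzN : ∀ n ∈ zpowers z, ∀ w, w * n = n * w := fun n hn =>
    mem_center_iff.1 (zpowers_le_of_mem hzc hn)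
  have hNB : zpowers z ≤ g.range.comap f ⊓ centralizer {y} := fun n hn =>
    ⟨mem_comap.2 (by rw [MonoidHom.mem_ker.1 (hk ▸ hn)]; exact one_mem _),
      mem_centralizer_singleton_iff.2 (hzN n hn y).symm⟩
  have hCB : zpowers z = g.range.comap f ⊓ centralizer {y} := by
    by_contra hne
    have h1 := lt2 (hNB.lt_of_ne hne)
    have h2 := lt2 (A := g.range.comap f ⊓ centralizer {y}) (B := centralizer {y})
      (inf_le_right.lt_of_ne fun e => hyE (e.ge (mem_centralizer_singleton_iff.2 rfl)).1)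
    rw [Nat.card_zpowers, hz] at h1
    omega
  have key : ∀ u ∈ g.range, u⁻¹ * (f y * u * (f y)⁻¹) ∈ g.range ⊓ centralizer {f y} := by
    intro u hu
    refine mem_inf.2 ⟨mul_mem (inv_mem hu) (hn.conj_mem u hu _), ?_⟩
    obtain ⟨b, rfl⟩ := hf u
    have hB : ∀ u ∈ g.range.comap f, (MulAut.conj y).toMonoidHom u ∈ g.range.comap f :=
      fun u hu => (hn.comap f).conj_mem u hu y
    obtain ⟨b2, e1⟩ : ∃ b2, y * b * y⁻¹ = b * b2 := ⟨_, (mul_inv_cancel_left _ _).symm⟩
    obtain ⟨b3, e2⟩ : ∃ b3, y * b2 * y⁻¹ = b2 * b3 := ⟨_, (mul_inv_cancel_left _ _).symm⟩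
    obtain ⟨b4, e3⟩ : ∃ b4, y * b3 * y⁻¹ = b3 * b4 := ⟨_, (mul_inv_cancel_left _ _).symm⟩
    have h4 : b4 = 1 := core (N := zpowers z) (MulAut.conj y).toMonoidHom
      (fun x => by
        calc _ = y ^ 3 * x * (y ^ 3)⁻¹ := by simp [pow_three, mul_assoc]
          _ = x := by simp [hy]) hB
      (fun n hn => by simp [hzN n hn y]) hzN
      (fun n ⟨i, hi⟩ => by
        rw [← hi, ← zpow_natCast, ← zpow_mul, mul_comm, zpow_mul, zpow_natCast, ← hz,
          pow_orderOf_eq_one, one_zpow])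
      (fun u hu v hv => ⟨(v * u)⁻¹ * (u * v), hk ▸ MonoidHom.mem_ker.2 (by
        rw [map_mul, map_inv, map_mul, map_mul, cE _ hu _ hv, inv_mul_cancel]), by group⟩)
      (fun u hu => hk ▸ MonoidHom.mem_ker.2 (by rw [map_pow, pE _ hu])) hu e1 e2 e3
    have m2 : b2 ∈ g.range.comap f := ((g.range.comap f).mul_mem_cancel_left hu).1 (e1 ▸ hB b hu)
    have m3 : b3 ∈ g.range.comap f := ((g.range.comap f).mul_mem_cancel_left m2).1 (e2 ▸ hB b2 m2)
    have h3 : b3 ∈ f.ker := by
      rw [hk, hCB]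
      rw [h4, mul_one, mul_inv_eq_iff_eq_mul] at e3
      exact ⟨m3, mem_centralizer_singleton_iff.2 e3.symm⟩
    rw [← map_inv f y, ← map_mul, ← map_mul, e1, map_mul, inv_mul_cancel_left]
    have := congrArg f e2
    simp only [map_mul, map_inv, MonoidHom.mem_ker.1 h3, mul_one] at this
    exact mem_centralizer_singleton_iff.2 (mul_inv_eq_iff_eq_mul.1 this).symm
  set D := g.range ⊓ centralizer {f y}
  have h1 : D.relIndex g.range ≤ Nat.card D := by
    refine Nat.card_le_card_of_injective (fun q : g.range ⧸ D.subgroupOf g.range =>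
      (⟨_, key _ q.out.2⟩ : D)) fun a b e => ?_
    have e1 : (a.out : Q)⁻¹ * (f y * a.out) = (b.out : Q)⁻¹ * (f y * b.out) :=
      mul_right_cancel (b := (f y)⁻¹) (by simpa only [mul_assoc] using congrArg Subtype.val e)
    rw [← a.out_eq, ← b.out_eq]
    refine QuotientGroup.eq.2 (mem_subgroupOf.2 ⟨Subtype.prop _, mem_centralizer_singleton_iff.2 ?_⟩)
    push_cast
    rw [cE _ (inv_mem a.out.2) _ b.out.2]
    calc _ = (b.out : Q) * ((a.out : Q)⁻¹ * (f y * a.out)) * (a.out : Q)⁻¹ := by group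
      _ = _ := by rw [e1]; group
  have h2 := (D.subgroupOf g.range).card_mul_index
  rw [Nat.card_congr (subgroupOfEquivOfLe inf_le_left).toEquiv, hE] at h2
  have h3 := lt2 (A := D) (B := centralizer {f y})
    (inf_le_right.lt_of_ne fun e => hyE (e.ge (mem_centralizer_singleton_iff.2 rfl)).1)
  change _ * D.relIndex g.range = _ at h2
  have h4 : Nat.card D ≤ 4 := by omega
  nlinarith

theorem ind.{u} {Q : Type*} [Group Q] (hQ : Nat.card Q = 81)
    (g : Multiplicative (Fin 3 → ZMod 3) →* Q) (hg : Injective g) (n : ℕ) :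
    ∀ {P : Type u} [Group P] [Finite P], Nat.card P = n → IsPGroup 3 P → ∀ y : P, y ^ 3 = 1 →
      Nat.card (centralizer ({y} : Set P)) ≤ 9 → ∀ f : P →* Q, Surjective f → f.ker = ⊥ := by
  induction n using Nat.strong_induction_on with
  | _ n ih =>
  intro P _ _ hn hP y hy hc f hf
  by_contra hne
  haveI := hP.isNilpotent
  obtain ⟨x, hx1⟩ := ne_bot_iff_exists_ne_one.1 (H2.inf_center_ne_bot f.ker hne)
  obtain ⟨k, hk⟩ := (hP.to_subgroup (f.ker ⊓ center P)).exists_card_eq
  obtain ⟨z, hz⟩ := exists_prime_orderOf_dvd_card' (G := ↥(f.ker ⊓ center P)) 3 (by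
    rw [hk]
    refine dvd_pow_self 3 fun e => hx1 ?_
    rw [e, pow_zero] at hk
    exact (Nat.card_eq_one_iff_unique.1 hk).1.elim _ _)
  have hz' : orderOf (z : P) = 3 := by rw [orderOf_coe, hz]
  have hZ : zpowers (z : P) ≤ f.ker := zpowers_le_of_mem z.2.1
  haveI : (zpowers (z : P)).Normal := ⟨fun a ha b => by
    rwa [mem_center_iff.1 (zpowers_le_of_mem z.2.2 ha) b, mul_inv_cancel_right]⟩
  have h1 := (zpowers (z : P)).card_eq_card_quotient_mul_card_subgroup
  rw [Nat.card_zpowers, hz'] at h1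
  have h2 := Nat.card_pos (α := P ⧸ zpowers (z : P))
  have := ih _ (by omega) rfl (hP.to_quotient (zpowers (z : P))) (QuotientGroup.mk' _ y)
    (by rw [← map_pow, hy, map_one])
    ((cent_surj _ (QuotientGroup.mk'_surjective _) y).trans hc) (QuotientGroup.lift _ f hZ)
    (fun q => by obtain ⟨a, rfl⟩ := hf q; exact ⟨a, rfl⟩)
  refine base hQ g hg hy hc f hf hz' z.2.2 (le_antisymm (fun a ha => ?_) hZ)
  exact (QuotientGroup.eq_one_iff a).1 (mem_bot.1 (this ▸ ha))

end E1

theorem pe1 {P : Type*} [Group P] [Finite P] (hP : IsPGroup 3 P) (y : P) (hy : orderOf y = 3)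
    (hc : Nat.card (centralizer ({y} : Set P)) ≤ 9) (T : Sylow 3 (Equiv.Perm (Fin (3 ^ 2))))
    (f : P →* ↥(T : Subgroup (Equiv.Perm (Fin (3 ^ 2))))) (hf : Surjective f) : Injective f := by
  obtain ⟨h1, g, hg⟩ := E1.exists_E T
  exact (MonoidHom.ker_eq_bot_iff f).1
    (E1.ind h1 g hg _ rfl hP y (hy ▸ pow_orderOf_eq_one y) hc f hf)

end Cfsg.Agent.FX
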