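import Cfsg.Agent.H26.ES2
import Cfsg.Agent.H19.M11e
import Cfsg.Agent.H1.Frattini

/-! Fixity four: a Sylow `3`-subgroup of maximal class inside the derived group of its normalizer -/

set_option autoImplicit false
set_option synthInstance.maxSize 1000

namespace Cfsg.Agent.FX

open Subgroup Matrix Cfsg.Agent.H19
open scoped commutatorElement

namespace PE2

abbrev M2 := Matrix (Fin 2) (Fin 2) (ZMod 3)

theorem g1 : ∀ M : M2, M * M * (M * M) = 1 → M * M = 1 ∨ M * M = -1 := by decide +kernel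

theorem g2 : ∀ s : M2, s * s = 1 → s ≠ -1 → ∀ t : M2, t * t = 1 → t ≠ -1 → s * t * (s * t) = 1 → s * t ≠ -1 →
    s = 1 ∨ t = 1 ∨ t = s := by decide +kernel

theorem g3 : ∀ s : M2, s * s = 1 → s ≠ -1 → ∃ l : Fin 2 → ZMod 3, l ≠ 0 ∧ l ᵥ* s = l := by decide +kernel

theorem fun0 {K : Type*} [Group K] (ρ : K →* M2) {m : ℕ} (hm : ¬ 3 ∣ m) (h : ∀ k, ρ k ^ m = 1)
    (hn : ∀ k, ρ k ≠ -1) : ∃ l : Fin 2 → ZMod 3, l ≠ 0 ∧ ∀ k, l ᵥ* ρ k = l := by
  have h2 : ∀ k, ρ k * ρ k = 1 := fun k => by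
    have a : ρ k ^ 48 = 1 := by
      have := pow_card_eq_one' (x := (ρ.toHomUnits k : GL (Fin 2) (ZMod 3)))
      rw [Matrix.card_GL_field, show ∏ i : Fin 2, (Fintype.card (ZMod 3) ^ 2 - Fintype.card (ZMod 3) ^ (i : ℕ)) = 48
        by decide +kernel] at this
      exact congrArg Units.val this
    have b : ρ k ^ 16 = 1 := by
      rw [← orderOf_dvd_iff_pow_eq_one] at a ⊢
      refine Nat.Coprime.dvd_of_dvd_mul_right (n := 3) (m := 16) ?_ a
      exact ((Nat.Prime.coprime_iff_not_dvd Nat.prime_three).2 fun e =>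
        hm (e.trans (orderOf_dvd_iff_pow_eq_one.2 (h k)))).symm
    have c : ∀ n, ρ k ^ (2 * (2 * n)) = 1 → ρ k ^ (2 * n) = 1 := fun n e => by
      rw [two_mul, two_mul, pow_add, pow_add] at e
      rw [two_mul, pow_add]
      exact (g1 _ e).resolve_right (by rw [← map_pow, ← map_mul]; exact hn _)
    exact (sq _).symm.trans (c 1 (c 2 (c 4 b)))
  by_cases e : ∀ k, ρ k = 1
  · exact ⟨1, by decide, fun k => by rw [e, vecMul_one]⟩
  push Not at e
  obtain ⟨s, hs⟩ := e
  obtain ⟨l, l0, hl⟩ := g3 _ (h2 s) (hn s)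
  refine ⟨l, l0, fun k => ?_⟩
  rcases g2 _ (h2 s) (hn s) _ (h2 k) (hn k) (map_mul ρ s k ▸ h2 _) (map_mul ρ s k ▸ hn _) with f | f | f
  · exact absurd f hs
  · rw [f, vecMul_one]
  · rw [f, hl]

theorem core {K : Type*} [Group K] [Finite K] (Q : Sylow 3 K) [hn : (Q : Subgroup K).Normal] (y : Q)
    (hc : Nat.card (centralizer ({y} : Set Q)) ≤ 9) (h27 : 27 ≤ Nat.card Q)
    (hN : (Q : Subgroup K) ≤ _root_.commutator K) : IsConj (y : K) (y : K)⁻¹ := by
  classical
  haveI := Fact.mk Nat.prime_three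
  haveI := Fintype.ofFinite Q
  have h1 : cc y * (cl y).card = Nat.card (Q : Subgroup K) := cc_mul_cl y
  have sub : (cl y).image (· * y⁻¹) ⊆ fs (_root_.commutator Q) := fun d hd => by
    obtain ⟨c, hc, rfl⟩ := Finset.mem_image.1 hd
    obtain ⟨g, rfl⟩ := isConj_iff.1 (mem_cl.1 hc)
    exact mem_fs.2 (commutator_mem_commutator (mem_top g) (mem_top y))
  have h2 := Finset.card_le_card sub
  rw [Finset.card_image_of_injective _ (mul_left_injective _), card_fs] at h2
  replace h2 : (cl y).card ≤ Nat.card (_root_.commutator Q) := h2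
  have h3 : Nat.card Q = Nat.card (Abelianization Q) * Nat.card (_root_.commutator Q) :=
    (_root_.commutator Q).card_eq_card_quotient_mul_card_subgroup
  have h4 : 0 < Nat.card (_root_.commutator Q) := Nat.card_pos
  have h5 : Nat.card (Q : Subgroup K) ≤ 9 * (cl y).card := h1.symm.trans_le (Nat.mul_le_mul_right _ hc)
  have nc : ¬ IsCyclic (Abelianization Q) := fun ⟨g, hg⟩ => by
    obtain ⟨g, rfl⟩ : ∃ x, Abelianization.of x = g := QuotientGroup.mk_surjective g
    have e : zpowers g = ⊤ := frattini_nongenerating (eq_top_iff.2 fun x _ => by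
      obtain ⟨n, e⟩ := hg (Abelianization.of x)
      haveI := Q.2.isNilpotent
      rw [← mul_inv_cancel_left (g ^ n) x]
      exact mul_mem_sup (zpow_mem_zpowers g n) (H1.commutator_le_frattini
        ((QuotientGroup.eq (s := _root_.commutator Q)).1 ((map_zpow Abelianization.of g n).trans e))))
    have : centralizer ({y} : Set Q) = ⊤ := eq_top_iff.2 (e ▸ zpowers_le.2 (mem_centralizer_singleton_iff.2 (by
      obtain ⟨n, rfl⟩ : y ∈ zpowers g := e ▸ mem_top y
      exact (Commute.self_zpow g n).eq)))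
    rw [this, card_top] at hc; omega
  have hA : IsPGroup 3 (Abelianization Q) := Q.2.to_quotient _
  have h9 : Nat.card (Abelianization Q) = 9 := by
    obtain ⟨n, e⟩ := hA.exists_card_eq
    have : 3 ^ n ≤ 9 := e ▸ Nat.le_of_mul_le_mul_right (by omega) h4
    rcases n with _ | _ | _ | n
    · exact absurd (isCyclic_of_card_dvd_prime (p := 3) (by rw [e]; norm_num)) nc
    · exact absurd (isCyclic_of_card_dvd_prime (p := 3) (by rw [e]; norm_num)) nc
    · exact e
    · have := Nat.one_le_pow n 3 (by norm_num); omega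
  have eq := Finset.eq_of_subset_of_card_le sub (by
    rw [Finset.card_image_of_injective _ (mul_left_injective _), card_fs]
    rw [h9] at h3
    exact (by omega : Nat.card (_root_.commutator Q) ≤ (cl y).card))
  obtain ⟨n, ⟨e⟩⟩ := H26.exists_hom_pi (p := 3) (Abelianization Q) fun x => by
    have a := h9 ▸ orderOf_dvd_natCard x
    have b : orderOf x ≠ 9 := fun f => nc (isCyclic_of_orderOf_eq_card x (f.trans h9.symm))
    have := Nat.le_of_dvd (by norm_num) a
    rw [← orderOf_dvd_iff_pow_eq_one]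
    interval_cases orderOf x <;> omega
  obtain rfl : n = 2 := by
    have := Nat.card_congr e.toEquiv
    rw [h9, Nat.card_eq_fintype_card] at this
    simp only [Fintype.card_multiplicative, Fintype.card_pi, ZMod.card, Finset.prod_const, Finset.card_univ,
      Fintype.card_fin] at this
    exact Nat.pow_right_injective (by norm_num : 2 ≤ 3) this.symm
  let φ := e.toMonoidHom.comp Abelianization.of
  have sur : ∀ w, ∃ x, (φ x).toAdd = w := fun w => by
    obtain ⟨x, hx⟩ : ∃ x, Abelianization.of x = e.symm (.ofAdd w) := QuotientGroup.mk_surjective _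
    exact ⟨x, by simp [φ, hx]⟩
  have ex : ∀ k : K, ∃ M : M2, ∀ x, M *ᵥ (φ x).toAdd = (φ (MulAut.conjNormal k x)).toAdd := fun k =>
    ⟨LinearMap.toMatrix' ((show (Fin 2 → ZMod 3) →+ (Fin 2 → ZMod 3) from MonoidHom.toAdditive ((e.toMonoidHom.comp
      (Abelianization.map (MulAut.conjNormal k : MulAut Q).toMonoidHom)).comp
        e.symm.toMonoidHom)).toZModLinearMap 3), fun x => by
      rw [LinearMap.toMatrix'_mulVec]
      change (e (Abelianization.map _ (e.symm (e (Abelianization.of x))))).toAdd = _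
      rw [e.symm_apply_apply]; rfl⟩
  choose M hM using ex
  have ext : ∀ A B : M2, (∀ x, A *ᵥ (φ x).toAdd = B *ᵥ (φ x).toAdd) → A = B := fun A B h =>
    ext_iff_mulVec.2 fun w => by obtain ⟨x, rfl⟩ := sur w; exact h x
  have hq : ∀ k ∈ (Q : Subgroup K), M k = 1 := fun k hk => ext _ _ fun x => by
    rw [hM, one_mulVec, show MulAut.conjNormal k x = ⟨k, hk⟩ * x * ⟨k, hk⟩⁻¹ from rfl, map_mul φ, map_mul φ,
      map_inv φ, mul_inv_cancel_comm]
  let ρ : K →* M2 := ⟨⟨M, hq 1 (one_mem _)⟩, fun a b => ext _ _ fun x => by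
    rw [← mulVec_mulVec, hM, hM, hM, map_mul, MulAut.mul_apply]⟩
  by_cases hm : ∃ k, ρ k = -1
  · obtain ⟨k, hk⟩ := hm
    have a := hM k y⁻¹
    rw [show M k = -1 from hk, neg_mulVec, one_mulVec, map_inv, toAdd_inv, neg_neg] at a
    have b : MulAut.conjNormal k y⁻¹ * y⁻¹ ∈ fs (_root_.commutator Q) := mem_fs.2 (by
      rw [← Abelianization.ker_of, MonoidHom.mem_ker, ← e.map_eq_one_iff]
      change φ _ = 1
      rw [map_mul, ← Multiplicative.toAdd.injective a, map_inv, mul_inv_cancel])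
    obtain ⟨c, hc, f⟩ := Finset.mem_image.1 (eq ▸ b)
    rw [mul_left_inj] at f
    have d := (Q : Subgroup K).subtype.map_isConj (mem_cl.1 hc)
    rw [f] at d
    exact d.trans (isConj_iff.2 ⟨k, rfl⟩).symm
  push Not at hm
  obtain ⟨l, l0, hl⟩ := fun0 ρ Q.not_dvd_index (fun k => by
    rw [← map_pow]; exact hq _ (pow_index_mem _ k)) hm
  let θ : Q →* Multiplicative (ZMod 3) := MonoidHom.mk' (fun x => .ofAdd (l ⬝ᵥ (φ x).toAdd)) fun a b => by
    rw [map_mul, toAdd_mul, dotProduct_add, ofAdd_add]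
  have foc : (Q : Subgroup K).focalSubgroup ≤ θ.ker.map (Subgroup.subtype _) := by
    rw [focalSubgroup_def, closure_le]
    rintro g ⟨-, x, hx, u, rfl⟩
    refine ⟨⟨x, hx⟩ * MulAut.conjNormal u ⟨x, hx⟩⁻¹, ?_, by simp [commutatorElement_def, mul_assoc]⟩
    have : θ (MulAut.conjNormal u ⟨x, hx⟩⁻¹) = θ ⟨x, hx⟩⁻¹ := by
      change Multiplicative.ofAdd _ = Multiplicative.ofAdd _
      rw [← hM, dotProduct_mulVec, show l ᵥ* M u = l from hl u]
    rw [SetLike.mem_coe, MonoidHom.mem_ker, map_mul, this, ← map_mul, mul_inv_cancel, map_one]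
  refine absurd (dotProduct_eq_zero l fun w => ?_) l0
  obtain ⟨x, rfl⟩ := sur w
  obtain ⟨z, hz, f⟩ := foc (commutator_inf_eq_focalSubgroup Q ▸ mem_inf.2 ⟨hN x.2, x.2⟩)
  obtain rfl : z = x := Subtype.ext f
  exact congrArg Multiplicative.toAdd hz

end PE2

theorem pe2' {G : Type*} [Group G] [Finite G] (P : Sylow 3 G) {y : G} (hyP : y ∈ P)
    (hc : Nat.card ↥((P : Subgroup G) ⊓ centralizer {y}) ≤ 9) (h27 : 27 ≤ Nat.card P)
    (hN : (P : Subgroup G) ≤ ⁅normalizer ((P : Subgroup G) : Set G), normalizer ((P : Subgroup G) : Set G)⁆) :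
    IsConj y y⁻¹ := by
  let Q := P.subtype (le_normalizer (H := (P : Subgroup G)))
  haveI : (Q : Subgroup (normalizer ((P : Subgroup G) : Set G))).Normal := normal_in_normalizer
  refine (Subgroup.subtype _).map_isConj (PE2.core Q ⟨⟨y, le_normalizer hyP⟩, hyP⟩ (le_trans ?_ hc)
    (h27.trans_eq (Nat.card_congr (subgroupOfEquivOfLe le_normalizer).toEquiv).symm) fun x hx => ?_)
  · refine Nat.card_le_card_of_injective (fun x => ⟨x.1.1.1, x.1.2, mem_centralizer_singleton_iff.2
      (congrArg (fun z : Q => z.1.1) (mem_centralizer_singleton_iff.1 x.2))⟩) fun a b e => ?_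
    have f : a.1.1.1 = b.1.1.1 := congrArg (fun z : ↥((P : Subgroup G) ⊓ centralizer {y}) => z.1) e
    exact Subtype.ext (Subtype.ext (Subtype.ext f))
  · have := hN hx
    rw [← map_subtype_commutator] at this
    exact (mem_map_iff_mem (subtype_injective _)).1 this

theorem pe2 {G : Type*} [Group G] [Finite G] (P : Sylow 3 G) {y : G} (hyP : y ∈ P) (_hy : orderOf y = 3)
    (hc : Nat.card ↥((P : Subgroup G) ⊓ centralizer {y}) ≤ 9) (h27 : 27 ≤ Nat.card P)
    (hN : (P : Subgroup G) ≤ ⁅normalizer ((P : Subgroup G) : Set G), normalizer ((P : Subgroup G) : Set G)⁆) :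
    IsConj y y⁻¹ ∨ (Nat.card P = 27 ∧ Cfsg.IsExtraspecial 3 (P : Subgroup G) ∧
      ∀ x ∈ (P : Subgroup G), x ^ 3 = 1) :=
  .inl (pe2' P hyP hc h27 hN)

end Cfsg.Agent.FX
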