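import Cfsg.Agent.S3224
import Cfsg.Agent.S0219
import Cfsg.Agent.S0111
import Cfsg.Agent.H11.Syl
import Cfsg.Prelude.Def_Involutions

/-! Simple transitive groups in which involutions fix at most three points -/

set_option autoImplicit false

namespace Cfsg.Agent.FX

open Subgroup MulAction
open scoped Pointwise

namespace P2a

variable {G Ω : Type*} [Group G] [Finite G] [MulAction G Ω] [Finite Ω]

theorem idx2 {Δ : Set Ω} (h3 : Nat.card Δ ≤ 3) {X : Subgroup G} (hX : IsPGroup 2 X)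
    (hM : X ≤ stabilizer G Δ) : Nat.card X ≤ 2 * Nat.card ↥(X ⊓ fixingSubgroup G Δ) := by
  let π := (toPermHom (stabilizer G Δ) Δ).comp (inclusion hM)
  have hk : π.ker = (X ⊓ fixingSubgroup G Δ).subgroupOf X := by
    ext x
    rw [MonoidHom.mem_ker, mem_subgroupOf, mem_inf, mem_fixingSubgroup_iff, Equiv.ext_iff]
    exact ⟨fun h => ⟨x.2, fun y hy => congrArg Subtype.val (h ⟨y, hy⟩)⟩,
      fun h y => Subtype.ext (h.2 y y.2)⟩
  obtain ⟨j, hj⟩ := IsPGroup.iff_card.1 (hX.of_surjective _ π.rangeRestrict_surjective)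
  have h6 : 2 ^ j ∣ Nat.factorial 3 := hj ▸ (card_subgroup_dvd_card π.range).trans
    (Nat.card_perm (α := Δ) ▸ Nat.factorial_dvd_factorial h3)
  have : j ≤ 1 := by
    by_contra h
    exact absurd ((pow_dvd_pow 2 (show 2 ≤ j by omega)).trans h6) (by decide)
  rw [← π.ker.index_mul_card, index_ker, hj, hk,
    Nat.card_congr (subgroupOfEquivOfLe inf_le_left).toEquiv]
  exact Nat.mul_le_mul_right _ (Nat.pow_le_pow_right (by decide) this)

theorem fix_eq {f : ℕ} (hf : ∀ g : G, orderOf g = 2 → Nat.card (fixedBy Ω g) ≤ f) {Δ : Set Ω}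
    (hΔ : Nat.card Δ = f) {s : G} (hs : orderOf s = 2) (h : s ∈ fixingSubgroup G Δ) :
    fixedBy Ω s = Δ :=
  (Set.eq_of_subset_of_ncard_le (fun y hy => (mem_fixingSubgroup_iff G).1 h y hy)
    ((hf s hs).trans hΔ.ge)).symm

theorem le4 {f : ℕ} (hf : ∀ g : G, orderOf g = 2 → Nat.card (fixedBy Ω g) ≤ f) (h3 : f ≤ 3)
    {Δ Γ : Set Ω} (hΔ : Nat.card Δ = f) (hΓ : Nat.card Γ = f) (hne : Δ ≠ Γ) {X : Subgroup G}
    (hX : IsPGroup 2 X) (h1 : X ≤ stabilizer G Δ) (h2 : X ≤ stabilizer G Γ) : Nat.card X ≤ 4 := by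
  have a := idx2 (hΔ ▸ h3) hX h1
  have b := idx2 (hΓ ▸ h3) (hX.to_le (inf_le_left (b := fixingSubgroup G Δ)))
    (inf_le_left.trans h2)
  have c : Nat.card ↥(X ⊓ fixingSubgroup G Δ ⊓ fixingSubgroup G Γ) = 1 := by
    refine ((hX.to_le (inf_le_left.trans inf_le_left)).card_eq_or_dvd).resolve_right fun d => ?_
    obtain ⟨s, hs⟩ := exists_prime_orderOf_dvd_card' 2 d
    rw [← orderOf_coe] at hs
    exact hne ((fix_eq hf hΔ hs s.2.1.2).symm.trans (fix_eq hf hΓ hs s.2.2))
  omega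

omit [Finite G] [Finite Ω] in
theorem cen_le {u g : G} (h : g * u = u * g) : g ∈ stabilizer G (fixedBy Ω u) := by
  rw [mem_stabilizer_iff, smul_fixedBy, h, mul_inv_cancel_right]

theorem no2 [IsSimpleGroup G] (hna : ¬ IsMulCommutative G) (H : Subgroup G) : H.index ≠ 2 :=
  fun h => by
    rcases (normal_of_index_eq_two h).eq_bot_or_eq_top with rfl | rfl
    · rw [index_bot] at h
      have := isCyclic_of_prime_card h
      exact hna inferInstance
    · simp at h

theorem fin [IsSimpleGroup G] (hna : ¬ IsMulCommutative G) (S S0 : Sylow 2 G) {u : G}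
    (hu : orderOf u = 2) (uS : u ∈ (S0 : Subgroup G))
    (h4 : Nat.card ↥((S0 : Subgroup G) ⊓ centralizer {u}) ≤ 4) :
    (∃ n : ℕ, Nonempty ((S : Subgroup G) ≃* DihedralGroup n)) ∨
      Cfsg.IsQuasiDihedral (S : Subgroup G) := by
  have nc : ¬ IsCyclic (S0 : Subgroup G) := fun h =>
    (S0219.result (even_iff_two_dvd.2 (hu ▸ orderOf_dvd_natCard u)) S0 h).elim (no2 hna)
  let x : (S0 : Subgroup G) := ⟨u, uS⟩
  have hx : orderOf x = 2 := (orderOf_coe x).symm.trans hu
  have e : centralizer ({x} : Set (S0 : Subgroup G)) =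
      ((S0 : Subgroup G) ⊓ centralizer {u}).subgroupOf _ := by
    ext y
    simp only [mem_centralizer_singleton_iff, mem_subgroupOf, mem_inf, y.2, true_and,
      Subtype.ext_iff]
    rfl
  rw [← Nat.card_congr (subgroupOfEquivOfLe inf_le_left).toEquiv, ← e] at h4
  obtain ⟨j, hj⟩ := IsPGroup.iff_card.1 (S0.isPGroup'.to_subgroup (centralizer {x}))
  have : Nontrivial (S0 : Subgroup G) := ⟨x, 1, fun e => by simp [e] at hx⟩
  have hz := S0.isPGroup'.center_nontrivial
  have h2 : 2 < Nat.card (centralizer ({x} : Set (S0 : Subgroup G))) := by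
    by_contra h
    have h1 := eq_of_le_of_card_ge (center_le_centralizer {x})
      ((not_lt.1 h).trans (Finite.one_lt_card (α := center (S0 : Subgroup G))))
    have h5 : centralizer ({x} : Set (S0 : Subgroup G)) = ⊤ := centralizer_eq_top_iff_subset.2
      (Set.singleton_subset_iff.2 (h1 ▸ mem_centralizer_singleton_iff.2 rfl))
    rw [h5, card_top] at h
    exact nc (isCyclic_of_prime_card (p := 2) (le_antisymm (not_lt.1 h) Finite.one_lt_card))
  have h5 : Nat.card (centralizer ({x} : Set (S0 : Subgroup G))) = 4 := by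
    rw [hj] at h2 h4 ⊢
    have : j < 3 := (Nat.pow_lt_pow_iff_right (by decide)).1 (h4.trans_lt (by decide))
    interval_cases j <;> omega
  have φ := Sylow.equiv S0 S
  rcases S3224.result S0.isPGroup' x hx h5 with ⟨n, ⟨ψ⟩⟩ | ⟨n, a, b, y, z, c, d, g⟩ | h
  · exact .inl ⟨n, ⟨φ.symm.trans ψ⟩⟩
  · exact .inr ⟨n, a, (Nat.card_congr φ.toEquiv).symm.trans b, φ y, φ z, by rwa [φ.orderOf_eq],
      by rwa [φ.orderOf_eq], by rw [← map_inv, ← map_mul, ← map_mul, g, map_pow]⟩
  · have : IsKleinFour (S0 : Subgroup G) :=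
      ⟨h, (not_isCyclic_iff_exponent_eq_prime Nat.prime_two h).1 nc⟩
    exact .inl ⟨2, ⟨φ.symm.trans IsKleinFour.nonempty_mulEquiv.some⟩⟩

end P2a

open P2a in
theorem m2a {G Ω : Type*} [Group G] [Finite G] [IsSimpleGroup G] (hna : ¬ IsMulCommutative G)
    [MulAction G Ω] [FaithfulSMul G Ω] [Finite Ω] (htrans : MulAction.IsPretransitive G Ω)
    (S : Sylow 2 G) (f : ℕ)
    (hf : ∀ g : G, orderOf g = 2 → Nat.card (MulAction.fixedBy Ω g) ≤ f)
    (hf' : ∃ g : G, orderOf g = 2 ∧ Nat.card (MulAction.fixedBy Ω g) = f) (h1 : 1 ≤ f)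
    (h3 : f ≤ 3) : (∃ H : Subgroup G, Cfsg.IsStronglyEmbedded H) ∨
      (∃ n : ℕ, Nonempty ((S : Subgroup G) ≃* DihedralGroup n)) ∨
      Cfsg.IsQuasiDihedral (S : Subgroup G) := by
  obtain ⟨t, ht, hΔ⟩ := hf'
  have tM : t ∈ stabilizer G (fixedBy Ω t) := cen_le rfl
  obtain ⟨T, hT, tT⟩ := H11.exists_isSylIn_le (p := 2) (Q := zpowers t)
    (IsPGroup.of_card (n := 1) (by rw [Nat.card_zpowers, ht, pow_one])) (zpowers_le.2 tM)
  replace tT := zpowers_le.1 tT
  obtain ⟨S0, hS⟩ := hT.pg.exists_le_sylow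
  have eT := hT.eq (S0.isPGroup'.to_le inf_le_left) (le_inf hS hT.le) inf_le_right
  have cs : ∀ g : G, Nat.card (g • fixedBy Ω t :) = f := fun g => by
    rw [← hΔ]; exact Set.natCard_smul_set _ _
  by_cases hM : (S0 : Subgroup G) ≤ stabilizer G (fixedBy Ω t)
  · by_cases hu : ∃ u ∈ (S0 : Subgroup G), orderOf u = 2 ∧ u ∉ fixingSubgroup G (fixedBy Ω t)
    · obtain ⟨u, uS, hu, uK⟩ := hu
      have i2 := idx2 (hΔ ▸ h3) S0.isPGroup' hM
      have i1 := ((S0 ⊓ fixingSubgroup G (fixedBy Ω t) : Subgroup G).subgroupOf S0).index_mul_card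
      rw [Nat.card_congr (subgroupOfEquivOfLe inf_le_left).toEquiv] at i1
      have i3 := Nat.le_of_mul_le_mul_right (i1.le.trans i2) Nat.card_pos
      have i4 : (S0 ⊓ fixingSubgroup G (fixedBy Ω t) : Subgroup G).relIndex S0 ≠ 1 := fun e =>
        uK (relIndex_eq_one.1 e uS).2
      have i5 : (S0 ⊓ fixingSubgroup G (fixedBy Ω t) : Subgroup G).relIndex S0 ≠ 0 :=
        index_ne_zero_of_finite
      obtain ⟨g, hg⟩ := (S0111.result S0 _ inf_le_left (by unfold relIndex at *; omega) u hu uS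
        fun e => uK e.2).resolve_left fun ⟨N, _, e, _⟩ => no2 hna N e
      have e := fix_eq hf hΔ ((MulAut.conj g).orderOf_eq u ▸ hu) hg.2
      rw [← smul_fixedBy, smul_eq_iff_eq_inv_smul] at e
      refine .inr (fin hna S S0 hu uS (le4 hf h3 hΔ (e ▸ cs _ : Nat.card (fixedBy Ω u) = f)
        (fun e' => uK ((mem_fixingSubgroup_iff G).2 fun y hy => (e' ▸ hy :)))
        (S0.isPGroup'.to_le inf_le_left) (inf_le_left.trans hM)
        fun x hx => cen_le (mem_centralizer_singleton_iff.1 hx.2)))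
    · push Not at hu
      have k : ∀ s ∈ stabilizer G (fixedBy Ω t), orderOf s = 2 → fixedBy Ω s = fixedBy Ω t :=
        fun s hs h2 => by
          obtain ⟨m, hm, e⟩ := hT.exists_conj_invol_mem h2 hs
          have h2' : orderOf (m * s * m⁻¹) = 2 := (MulAut.conj m).orderOf_eq s ▸ h2
          have := fix_eq hf hΔ h2' (hu _ (hS e) h2')
          rw [← smul_fixedBy, smul_eq_iff_eq_inv_smul] at this
          exact this.trans (inv_mem hm)
      refine .inl ⟨stabilizer G (fixedBy Ω t), fun e => ?_,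
        even_iff_two_dvd.2 (ht ▸ orderOf_dvd_natCard _ tM), fun g hg => ?_⟩
      · obtain ⟨⟨a, ha⟩⟩ := (Nat.card_pos_iff.1 (hΔ ▸ h1 : 0 < Nat.card (fixedBy Ω t))).1
        have : t = 1 := eq_of_smul_eq_smul (α := Ω) fun b => by
          obtain ⟨g, rfl⟩ := htrans.exists_smul_eq a b
          have hg : g ∈ stabilizer G (fixedBy Ω t) := e ▸ mem_top g
          rw [one_smul]
          exact (mem_stabilizer_iff.1 hg ▸ Set.smul_mem_smul_set ha : g • a ∈ fixedBy Ω t)
        simp [this] at ht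
      · refine Nat.not_even_iff_odd.1 fun ev => hg ?_
        obtain ⟨⟨s, s1, r, r1, rfl⟩, hs⟩ := exists_prime_orderOf_dvd_card' 2 ev.two_dvd
        rw [← orderOf_coe] at hs
        have a := k _ s1 hs
        have b := k _ r1 ((MulAut.conj g).orderOf_eq r ▸ hs)
        rw [mem_stabilizer_iff, ← b, smul_fixedBy, b]
        exact a
  · have : T.subgroupOf S0 < ⊤ := lt_top_iff_ne_top.2 fun e =>
      hM ((subgroupOf_eq_top.1 e).trans hT.le)
    have nl := S0.isPGroup'.isNilpotent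
    obtain ⟨g, g1, g2⟩ := SetLike.exists_of_lt (Group.normalizerCondition_of_isNilpotent _ this)
    have gM : (g : G) ∉ stabilizer G (fixedBy Ω t) := fun e => g2 (eT ▸ ⟨g.2, e⟩ : (g : G) ∈ T)
    have := le4 hf h3 hΔ (cs g) (fun e => gM e.symm) hT.pg hT.le fun x hx => by
      have : (g : G)⁻¹ * x * g ∈ T := ((mem_normalizer_iff''.1 g1) ⟨x, hS hx⟩).1 hx
      rw [mem_stabilizer_iff, smul_smul, show x * g = g * ((g : G)⁻¹ * x * g) by group, mul_smul,
        mem_stabilizer_iff.1 (hT.le this)]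
    have le : (S0 : Subgroup G) ⊓ centralizer {t} ≤ T := fun x hx => eT ▸ (⟨hx.1,
      cen_le (mem_centralizer_singleton_iff.1 hx.2)⟩ :
        x ∈ (S0 : Subgroup G) ⊓ stabilizer G (fixedBy Ω t))
    exact .inr (fin hna S S0 ht (hS tT) ((card_le_of_le le).trans this))

end Cfsg.Agent.FX
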