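import Cfsg.Agent.FX.E1
import Cfsg.Agent.FX.E2
import Cfsg.Agent.S2807

/-!
# Fixity four: the wreath product case
-/

set_option autoImplicit false

namespace Cfsg.Agent.FX

open Subgroup

theorem wr {G : Type*} [Group G] [Finite G] [IsSimpleGroup G] (hna : ¬ IsMulCommutative G)
    (Q : Sylow 3 G) (y : G) (hyQ : y ∈ Q) (hy : orderOf y = 3)
    (hc : Nat.card ↥((Q : Subgroup G) ⊓ centralizer {y}) ≤ 9) (h27 : 27 ≤ Nat.card Q)
    (hr : ¬ IsConj y y⁻¹) : ∃ T : Sylow 3 (Equiv.Perm (Fin 9)),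
      Nonempty ((Q : Subgroup G) ≃* (T : Subgroup (Equiv.Perm (Fin 9)))) := by
  haveI : Fact (Nat.Prime 3) := ⟨Nat.prime_three⟩
  have ht : commutator G = ⊤ := by
    rcases (inferInstance : (commutator G).Normal).eq_bot_or_eq_top with h | h
    · refine absurd ⟨⟨fun a b => ?_⟩⟩ hna
      have : a * b * a⁻¹ * b⁻¹ ∈ _root_.commutator G :=
        commutator_mem_commutator (mem_top a) (mem_top b)
      rw [h, mem_bot] at this
      calc a * b = a * b * a⁻¹ * b⁻¹ * (b * a) := by group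
        _ = b * a := by rw [this, one_mul]
    · exact h
  obtain ⟨T, f, hf⟩ := S2807.result Q (fun e => hr (pe2' Q hyQ hc h27 (by
    rw [ht, inf_top_eq] at e
    exact e.le.trans inf_le_right)))
  have hi := pe1 Q.2 ⟨y, hyQ⟩ ((orderOf_coe (⟨y, hyQ⟩ : (Q : Subgroup G))).symm.trans hy)
    (le_trans (Nat.card_le_card_of_injective
      (fun w : centralizer ({⟨y, hyQ⟩} : Set (Q : Subgroup G)) =>
        (⟨w.1.1, w.1.2, mem_centralizer_singleton_iff.2
          (congrArg Subtype.val (mem_centralizer_singleton_iff.1 w.2))⟩ :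
          ↥((Q : Subgroup G) ⊓ centralizer {y})))
      (fun _ _ e => Subtype.ext (Subtype.ext
        (congrArg (fun w : ↥((Q : Subgroup G) ⊓ centralizer {y}) => (w : G)) e)))) hc) T f hf
  exact ⟨T, ⟨MulEquiv.ofBijective f ⟨hi, hf⟩⟩⟩

end Cfsg.Agent.FX
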